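-- helper1: project SPU (S2316), package [FIT2]: the double count for the affine stratum.
import Mathlib
import Cfsg.Agent.Lib.Helper19.SPU.Defs
import Cfsg.Agent.Lib.Helper40.Fitting

set_option autoImplicit false
set_option linter.unusedSectionVars false

namespace Cfsg.Agent.Lib.Helper1.SPU

open Matrix Cfsg.Agent.Lib.Helper19.SPU Cfsg.Agent.Lib.Helper40

universe u

section aux

variable {F : Type u} [Field F] {n : Type} [Fintype n] [DecidableEq n]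

theorem isom_isUnit {K P : Matrix n n F} (hK : IsUnit K) (h : Isom K P) : IsUnit P := by
  rw [Matrix.isUnit_iff_isUnit_det] at hK ⊢
  have h1 := congrArg Matrix.det h
  rw [Matrix.det_mul, Matrix.det_mul, Matrix.det_transpose] at h1
  have h2 : P.det ≠ 0 := by
    intro h0
    rw [h0] at h1
    simp at h1
    exact hK.ne_zero h1.symm
  exact isUnit_iff_ne_zero.mpr h2

theorem isom_mul {K P Q : Matrix n n F} (hP : Isom K P) (hQ : Isom K Q) : Isom K (P * Q) := by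
  unfold Isom at *
  rw [Matrix.transpose_mul]
  calc Qᵀ * Pᵀ * K * (P * Q) = Qᵀ * (Pᵀ * K * P) * Q := by simp only [Matrix.mul_assoc]
    _ = K := by rw [hP, hQ]

theorem isom_inv {K : Matrix n n F} (P : GL n F) (hP : Isom K P.val) : Isom K (P⁻¹).val := by
  unfold Isom at *
  calc ((P⁻¹).val)ᵀ * K * (P⁻¹).val = ((P⁻¹).val)ᵀ * (P.valᵀ * K * P.val) * (P⁻¹).val := by
        rw [hP]
    _ = (P.val * (P⁻¹).val)ᵀ * K * (P.val * (P⁻¹).val) := by
        rw [Matrix.transpose_mul]; simp only [Matrix.mul_assoc]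
    _ = K := by rw [Units.mul_inv]; simp

theorem affA_of_semiconj {K X D Q : Matrix n n F} (hX : AffA K X) (hQ : Isom K Q)
    (h : X * Q = Q * D) : AffA K D := by
  unfold AffA Isom at *
  have e : Dᵀ * K + K * D + K = Qᵀ * (Xᵀ * K + K * X + K) * Q := by
    have h1 : Qᵀ * (Xᵀ * K + K * X + K) * Q =
        (X * Q)ᵀ * K * Q + Qᵀ * K * (X * Q) + Qᵀ * K * Q := by
      rw [Matrix.transpose_mul]
      simp only [Matrix.mul_add, Matrix.add_mul, Matrix.mul_assoc]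
    rw [h1, h, Matrix.transpose_mul]
    have h2 : Dᵀ * Qᵀ * K * Q = Dᵀ * (Qᵀ * K * Q) := by simp only [Matrix.mul_assoc]
    have h3 : Qᵀ * K * (Q * D) = (Qᵀ * K * Q) * D := by simp only [Matrix.mul_assoc]
    rw [h2, h3, hQ]
  rw [e, hX, Matrix.mul_zero, Matrix.zero_mul]

theorem isUnit_sq_add {K X : Matrix n n F} (hK : IsUnit K) (hX : AffA K X) (hu : IsUnit X) :
    IsUnit (X * X + X) := by
  have h1 : K * (X + 1) = -(Xᵀ * K) := by
    unfold AffA at hX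
    rw [Matrix.mul_add, Matrix.mul_one]
    exact eq_neg_of_add_eq_zero_right (by rw [← hX]; abel)
  have h2 : IsUnit (X + 1) := by
    rw [Matrix.isUnit_iff_isUnit_det] at hK hu ⊢
    have h3 := congrArg Matrix.det h1
    rw [Matrix.det_mul, Matrix.det_neg, Matrix.det_mul, Matrix.det_transpose] at h3
    have h4 : IsUnit (K.det * (X + 1).det) := by
      rw [h3]
      exact ((isUnit_neg_one.pow _).mul (hu.mul hK))
    exact (IsUnit.mul_iff.mp h4).2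
  have e : X * X + X = X * (X + 1) := by rw [Matrix.mul_add, Matrix.mul_one]
  rw [e]
  exact hu.mul h2

end aux

section blocks

variable {F : Type u} [Field F] {α β : Type} [Fintype α] [DecidableEq α] [Fintype β]
  [DecidableEq β]

theorem isom_diag_iff (K₁ Q₁ : Matrix α α F) (K₂ Q₂ : Matrix β β F) :
    Isom (Matrix.fromBlocks K₁ 0 0 K₂) (Matrix.fromBlocks Q₁ 0 0 Q₂) ↔
      Isom K₁ Q₁ ∧ Isom K₂ Q₂ := by
  unfold Isom
  rw [Matrix.fromBlocks_transpose, Matrix.fromBlocks_multiply, Matrix.fromBlocks_multiply,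
    Matrix.fromBlocks_inj]
  simp

theorem affA_diag_iff (K₁ X₁ : Matrix α α F) (K₂ X₂ : Matrix β β F) :
    AffA (Matrix.fromBlocks K₁ 0 0 K₂) (Matrix.fromBlocks X₁ 0 0 X₂) ↔
      AffA K₁ X₁ ∧ AffA K₂ X₂ := by
  unfold AffA
  rw [Matrix.fromBlocks_transpose, Matrix.fromBlocks_multiply, Matrix.fromBlocks_multiply,
    Matrix.fromBlocks_add, Matrix.fromBlocks_add, ← Matrix.fromBlocks_zero, Matrix.fromBlocks_inj]
  simp

theorem sq_add_diag (X₁ : Matrix α α F) (X₂ : Matrix β β F) :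
    Matrix.fromBlocks X₁ 0 0 X₂ * Matrix.fromBlocks X₁ 0 0 X₂ + Matrix.fromBlocks X₁ 0 0 X₂ =
      Matrix.fromBlocks (X₁ * X₁ + X₁) 0 0 (X₂ * X₂ + X₂) := by
  rw [Matrix.fromBlocks_multiply, Matrix.fromBlocks_add]
  simp

theorem isUnit_diag {K₁ : Matrix α α F} {K₂ : Matrix β β F} (h1 : IsUnit K₁) (h2 : IsUnit K₂) :
    IsUnit (Matrix.fromBlocks K₁ 0 0 K₂) := by
  rw [Matrix.isUnit_iff_isUnit_det] at h1 h2 ⊢
  rw [Matrix.det_fromBlocks_zero₂₁]
  exact h1.mul h2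

end blocks

section count

variable {F : Type u} [Field F] {n : Type} [Fintype n] [DecidableEq n]

/-- the isometries as a subtype of `GL`. -/
abbrev IG (K : Matrix n n F) : Type u := {g : GL n F // Isom K g.val}

theorem card_IG (K : Matrix n n F) (hK : IsUnit K) : Nat.card (IG K) = cI K := by
  unfold cI
  refine Nat.card_congr ⟨fun g => ⟨g.1.val, g.2⟩,
    fun P => ⟨(isom_isUnit hK P.2).unit, by rw [IsUnit.unit_spec]; exact P.2⟩, ?_, ?_⟩
  · intro g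
    apply Subtype.ext
    apply Units.ext
    simp
  · intro P
    apply Subtype.ext
    simp

end count

/-- **[FIT2]** the double count for the stratum of the affine family. -/
theorem pkgFit2_of (hDec : PkgDec2N.{u}) : PkgFit2.{u} := by
  intro F _ _ α β _ _ _ _ K₁ K₂ hK₁ hK₂
  classical
  obtain ⟨K, hKdef⟩ : ∃ K : Matrix (α ⊕ β) (α ⊕ β) F, K = Matrix.fromBlocks K₁ 0 0 K₂ := ⟨_, rfl⟩
  rw [← hKdef]
  have hKu : IsUnit K := by rw [hKdef]; exact isUnit_diag hK₁.2.2 hK₂.2.2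
  have hcard : Fintype.card (α ⊕ β) = Fintype.card α + Fintype.card β := Fintype.card_sum
  let T₁ : Type u := {X : Matrix α α F // AffA K₁ X ∧ IsNilpotent (X * X + X)}
  let T₂ : Type u := {X : Matrix β β F // AffA K₂ X ∧ IsUnit X}
  let S : Type u := {X : Matrix (α ⊕ β) (α ⊕ β) F //
    AffA K X ∧ ((X * X + X) ^ Fintype.card (α ⊕ β)).rank = Fintype.card β}
  let 𝒳 : Type u := {x : IG K × Matrix (α ⊕ β) (α ⊕ β) F //
    ∃ (X₁ : Matrix α α F) (X₂ : Matrix β β F), AffA K₁ X₁ ∧ IsNilpotent (X₁ * X₁ + X₁) ∧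
      AffA K₂ X₂ ∧ IsUnit X₂ ∧ x.2 * x.1.1.val = x.1.1.val * Matrix.fromBlocks X₁ 0 0 X₂}
  -- first parametrisation
  let f₁ : IG K × (T₁ × T₂) → 𝒳 := fun t =>
    ⟨(t.1, t.1.1.val * Matrix.fromBlocks t.2.1.1 0 0 t.2.2.1 * (t.1.1⁻¹).val),
      t.2.1.1, t.2.2.1, t.2.1.2.1, t.2.1.2.2, t.2.2.2.1, t.2.2.2.2, by
        show t.1.1.val * Matrix.fromBlocks t.2.1.1 0 0 t.2.2.1 * (t.1.1⁻¹).val * t.1.1.val =
          t.1.1.val * Matrix.fromBlocks t.2.1.1 0 0 t.2.2.1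
        rw [Matrix.mul_assoc, Units.inv_mul, Matrix.mul_one]⟩
  have hf₁ : Function.Bijective f₁ := by
    constructor
    · rintro ⟨P, ⟨X₁, hX₁⟩, ⟨X₂, hX₂⟩⟩ ⟨P', ⟨X₁', hX₁'⟩, ⟨X₂', hX₂'⟩⟩ hEq
      have h1 := congrArg (fun x : 𝒳 => x.1.1) hEq
      have h2 := congrArg (fun x : 𝒳 => x.1.2) hEq
      simp only [f₁] at h1 h2
      subst h1
      have h3 : Matrix.fromBlocks X₁ 0 0 X₂ = Matrix.fromBlocks X₁' 0 0 X₂' := by
        have := congrArg (fun Z => (P.1⁻¹).val * Z * P.1.val) h2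
        simpa [Matrix.mul_assoc, ← Matrix.mul_assoc (P.1⁻¹).val P.1.val] using this
      rw [Matrix.fromBlocks_inj] at h3
      obtain ⟨hNN, -, -, hAA⟩ := h3
      subst hNN
      subst hAA
      rfl
    · rintro ⟨⟨P, M⟩, X₁, X₂, h1, h2, h3, h4, h⟩
      refine ⟨(P, ⟨X₁, h1, h2⟩, ⟨X₂, h3, h4⟩), ?_⟩
      apply Subtype.ext
      simp only [f₁]
      refine Prod.ext rfl ?_
      simp only
      simp only at h
      rw [← h, Matrix.mul_assoc, Units.mul_inv, Matrix.mul_one]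
  -- second parametrisation
  have hex : ∀ X : S, ∃ (P : GL (α ⊕ β) F) (X₁ : Matrix α α F) (X₂ : Matrix β β F),
      Isom (Matrix.fromBlocks K₁ 0 0 K₂) P.val ∧
      X.1 * P.val = P.val * Matrix.fromBlocks X₁ 0 0 X₂ ∧ AffA K₁ X₁ ∧ AffA K₂ X₂ ∧
      IsNilpotent (X₁ * X₁ + X₁) ∧ IsUnit X₂ := fun X =>
    hDec F α β K₁ K₂ X.1 hK₁ hK₂ (by rw [← hKdef]; exact X.2.1)
      (by rw [← hcard]; exact X.2.2)
  choose P₀ X₁₀ X₂₀ hP₀ hsc hA₁ hA₂ hN₀ hU₀ using hex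
  have hP₀' : ∀ X : S, Isom K (P₀ X).val := fun X => by rw [hKdef]; exact hP₀ X
  have hconjA : ∀ {m : Type} [Fintype m] [DecidableEq m] (L X : Matrix m m F) (Q : IG L),
      AffA L X → AffA L ((Q.1⁻¹).val * X * Q.1.val) := by
    intro m _ _ L X Q hX
    refine affA_of_semiconj hX Q.2 ?_
    rw [← Matrix.mul_assoc, ← Matrix.mul_assoc, Units.mul_inv, Matrix.one_mul]
  have hconjS : ∀ {m : Type} [Fintype m] [DecidableEq m] (X : Matrix m m F) (Q : GL m F),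
      (Q⁻¹).val * X * Q.val * ((Q⁻¹).val * X * Q.val) + (Q⁻¹).val * X * Q.val =
        (Q⁻¹).val * (X * X + X) * Q.val := by
    intro m _ _ X Q
    have e : (Q⁻¹).val * X * Q.val * ((Q⁻¹).val * X * Q.val) =
        (Q⁻¹).val * X * (Q.val * (Q⁻¹).val) * X * Q.val := by
      simp only [Matrix.mul_assoc]
    rw [e, Units.mul_inv, Matrix.mul_one]
    simp only [Matrix.mul_add, Matrix.add_mul, Matrix.mul_assoc]
  let f₂ : S × (IG K₁ × IG K₂) → 𝒳 := fun t =>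
    ⟨(⟨P₀ t.1 * diagGL t.2.1.1 t.2.2.1, by
        rw [Units.val_mul]
        refine isom_mul (hP₀' t.1) ?_
        rw [diagGL_val, hKdef]
        exact (isom_diag_iff _ _ _ _).mpr ⟨t.2.1.2, t.2.2.2⟩⟩, t.1.1),
      (t.2.1.1⁻¹).val * X₁₀ t.1 * t.2.1.1.val, (t.2.2.1⁻¹).val * X₂₀ t.1 * t.2.2.1.val,
      hconjA K₁ _ t.2.1 (hA₁ t.1), by
        rw [hconjS]
        obtain ⟨k, hk⟩ := hN₀ t.1
        exact ⟨k, by rw [Units.conj_pow', hk, Matrix.mul_zero, Matrix.zero_mul]⟩,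
      hconjA K₂ _ t.2.2 (hA₂ t.1),
      ((t.2.2.1⁻¹).isUnit.mul (hU₀ t.1)).mul t.2.2.1.isUnit, by
        show t.1.1 * (P₀ t.1 * diagGL t.2.1.1 t.2.2.1).val =
          (P₀ t.1 * diagGL t.2.1.1 t.2.2.1).val *
          Matrix.fromBlocks ((t.2.1.1⁻¹).val * X₁₀ t.1 * t.2.1.1.val) 0 0
            ((t.2.2.1⁻¹).val * X₂₀ t.1 * t.2.2.1.val)
        have e : Matrix.fromBlocks ((t.2.1.1⁻¹).val * X₁₀ t.1 * t.2.1.1.val) 0 0
            ((t.2.2.1⁻¹).val * X₂₀ t.1 * t.2.2.1.val) =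
            (diagGL t.2.1.1 t.2.2.1)⁻¹.val * Matrix.fromBlocks (X₁₀ t.1) 0 0 (X₂₀ t.1) *
              (diagGL t.2.1.1 t.2.2.1).val := by
          rw [diagGL_inv_val, diagGL_val, Matrix.fromBlocks_multiply, Matrix.fromBlocks_multiply]
          simp
        rw [e, Units.val_mul, ← Matrix.mul_assoc, hsc t.1]
        simp only [Matrix.mul_assoc]
        rw [Units.mul_inv_cancel_left]⟩
  have hf₂ : Function.Bijective f₂ := by
    constructor
    · rintro ⟨M, Q₁, Q₂⟩ ⟨M', Q₁', Q₂'⟩ hEq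
      have h1 := congrArg (fun x : 𝒳 => x.1.1.1) hEq
      have h2 := congrArg (fun x : 𝒳 => x.1.2) hEq
      simp only [f₂] at h1 h2
      have hM : M = M' := Subtype.ext h2
      subst hM
      have h3 : diagGL Q₁.1 Q₂.1 = diagGL Q₁'.1 Q₂'.1 := mul_left_cancel h1
      have h4 := congrArg Units.val h3
      rw [diagGL_val, diagGL_val, Matrix.fromBlocks_inj] at h4
      obtain ⟨h5, -, -, h6⟩ := h4
      have e1 : Q₁ = Q₁' := Subtype.ext (Units.ext h5)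
      have e2 : Q₂ = Q₂' := Subtype.ext (Units.ext h6)
      rw [e1, e2]
    · rintro ⟨⟨P, X⟩, X₁, X₂, hA1, hN1, hA2, hU2, h⟩
      replace h : X * P.1.val = P.1.val * Matrix.fromBlocks X₁ 0 0 X₂ := h
      have hD : AffA K (Matrix.fromBlocks X₁ 0 0 X₂) := by
        rw [hKdef]; exact (affA_diag_iff _ _ _ _).mpr ⟨hA1, hA2⟩
      have hPi : (P.1⁻¹).val * X = Matrix.fromBlocks X₁ 0 0 X₂ * (P.1⁻¹).val := by
        have e1 : (P.1⁻¹).val * (X * P.1.val) * (P.1⁻¹).val = (P.1⁻¹).val * X := by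
          rw [Matrix.mul_assoc, Matrix.mul_assoc, Units.mul_inv, Matrix.mul_one]
        have e2 : (P.1⁻¹).val * (P.1.val * Matrix.fromBlocks X₁ 0 0 X₂) * (P.1⁻¹).val =
            Matrix.fromBlocks X₁ 0 0 X₂ * (P.1⁻¹).val := by
          rw [← Matrix.mul_assoc, Units.inv_mul, Matrix.one_mul]
        rw [← e1, ← e2, h]
      have hX : AffA K X := affA_of_semiconj hD (isom_inv P.1 P.2) hPi.symm
      have hsq : (X * X + X) * P.1.val = P.1.val *
          Matrix.fromBlocks (X₁ * X₁ + X₁) 0 0 (X₂ * X₂ + X₂) := by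
        rw [← sq_add_diag, Matrix.add_mul, Matrix.mul_add, Matrix.mul_assoc, h,
          ← Matrix.mul_assoc, h, Matrix.mul_assoc]
      have hA2u : IsUnit (X₂ * X₂ + X₂) := isUnit_sq_add hK₂.2.2 hA2 hU2
      have hrank : ((X * X + X) ^ Fintype.card (α ⊕ β)).rank = Fintype.card β := by
        rw [hcard, rank_pow_of_semiconj (X * X + X) _ P.1 hsq, rank_pow_fromBlocks _ _ hN1 hA2u]
      obtain ⟨s, hs⟩ : ∃ s : S, s.1 = X := ⟨⟨X, hX, hrank⟩, rfl⟩
      have h0 : X * (P₀ s).val = (P₀ s).val * Matrix.fromBlocks (X₁₀ s) 0 0 (X₂₀ s) := by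
        rw [← hs]; exact hsc s
      have h0i : Matrix.fromBlocks (X₁₀ s) 0 0 (X₂₀ s) * ((P₀ s)⁻¹).val =
          ((P₀ s)⁻¹).val * X := by
        have e1 : ((P₀ s)⁻¹).val * (X * (P₀ s).val) * ((P₀ s)⁻¹).val = ((P₀ s)⁻¹).val * X := by
          rw [Matrix.mul_assoc, Matrix.mul_assoc, Units.mul_inv, Matrix.mul_one]
        have e2 : ((P₀ s)⁻¹).val * ((P₀ s).val * Matrix.fromBlocks (X₁₀ s) 0 0 (X₂₀ s)) *
            ((P₀ s)⁻¹).val = Matrix.fromBlocks (X₁₀ s) 0 0 (X₂₀ s) * ((P₀ s)⁻¹).val := by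
          rw [← Matrix.mul_assoc, Units.inv_mul, Matrix.one_mul]
        rw [← e1, ← e2, h0]
      have hQD : Matrix.fromBlocks (X₁₀ s) 0 0 (X₂₀ s) * ((P₀ s)⁻¹ * P.1).val =
          ((P₀ s)⁻¹ * P.1).val * Matrix.fromBlocks X₁ 0 0 X₂ := by
        rw [Units.val_mul, ← Matrix.mul_assoc, h0i, Matrix.mul_assoc, h, Matrix.mul_assoc]
      have hQM : Matrix.fromBlocks (X₁₀ s * X₁₀ s + X₁₀ s) 0 0 (X₂₀ s * X₂₀ s + X₂₀ s) *
          ((P₀ s)⁻¹ * P.1).val = ((P₀ s)⁻¹ * P.1).val *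
          Matrix.fromBlocks (X₁ * X₁ + X₁) 0 0 (X₂ * X₂ + X₂) := by
        rw [← sq_add_diag, ← sq_add_diag, Matrix.add_mul, Matrix.mul_add, Matrix.mul_assoc, hQD,
          ← Matrix.mul_assoc, hQD, Matrix.mul_assoc]
      have hrig := fitting_rigid (X₁₀ s * X₁₀ s + X₁₀ s) (X₁ * X₁ + X₁)
        (X₂₀ s * X₂₀ s + X₂₀ s) (X₂ * X₂ + X₂) (hN₀ s) hN1
        (isUnit_sq_add hK₂.2.2 (hA₂ s) (hU₀ s)) hA2u ((P₀ s)⁻¹ * P.1) hQM
      obtain ⟨Q₁, Q₂, hQ⟩ := hrig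
      have hQiso : Isom K ((P₀ s)⁻¹ * P.1).val := by
        rw [Units.val_mul]
        exact isom_mul (isom_inv (P₀ s) (hP₀' s)) P.2
      rw [hQ, hKdef] at hQiso
      obtain ⟨hQ1, hQ2⟩ := (isom_diag_iff _ _ _ _).mp hQiso
      refine ⟨(s, ⟨Q₁, hQ1⟩, ⟨Q₂, hQ2⟩), ?_⟩
      apply Subtype.ext
      simp only [f₂]
      refine Prod.ext ?_ hs
      apply Subtype.ext
      simp only
      have : diagGL Q₁ Q₂ = (P₀ s)⁻¹ * P.1 := Units.ext (by rw [diagGL_val, hQ])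
      rw [this, mul_inv_cancel_left]
  have c1 := Nat.card_eq_of_bijective f₁ hf₁
  have c2 := Nat.card_eq_of_bijective f₂ hf₂
  rw [Nat.card_prod, Nat.card_prod] at c1 c2
  rw [card_IG K hKu] at c1
  rw [card_IG K₁ hK₁.2.2, card_IG K₂ hK₂.2.2] at c2
  have e1 : cS2 K (Fintype.card β) = Nat.card S := rfl
  have e2 : cT K₁ = Nat.card T₁ := rfl
  have e3 : cDA K₂ = Nat.card T₂ := rfl
  rw [e1, e2, e3, c1, c2]

end Cfsg.Agent.Lib.Helper1.SPU
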